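/-
The abelian generating subgroup when `φ` fixes every component.
-/
import Cfsg.Agent.NSV.Syl
import Cfsg.Agent.H45.NormFam

set_option autoImplicit false
set_option linter.unusedSectionVars false

namespace Cfsg.Agent.NSV

open Subgroup Cfsg.Agent.H49 Cfsg.Agent.H44 Cfsg.Agent.H45 Cfsg.Agent.NSF
open scoped commutatorElement

universe u

variable {G : Type u} [Group G] [Finite G] {r p q : ℕ}
  {A B B' D H J J' L L' M N P R S U V X Y Z : Subgroup G} {θ K : G → Subgroup G} {a a' b c g k x y φ : G}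

theorem abl_comm_sSup {T : Set (Subgroup G)} (hn : ∀ X ∈ T, X ≤ 𝒩(N))
    (h : ∀ X ∈ T, ∀ Y ∈ T, ⁅X, Y⁆ ≤ N) : ⁅sSup T, sSup T⁆ ≤ N := by
  have hT : sSup T ≤ 𝒩(N) := sSup_le hn
  have h1 : ∀ Y ∈ T, ⁅sSup T, Y⁆ ≤ N := fun Y hY => by
    rw [← quo_cent_iff hT (hn Y hY), quo_le_iff hT]
    exact sSup_le fun X hX => (quo_le_iff (hn X hX)).1 ((quo_cent_iff (hn X hX) (hn Y hY)).2
      (h X hX Y hY))
  rw [← quo_cent_iff hT hT, quo_le_iff hT]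
  refine sSup_le fun X hX => (quo_le_iff (hn X hX)).1 ((quo_cent_iff (hn X hX) hT).2 ?_)
  rw [commutator_comm]; exact h1 X hX

theorem abl_ne_one (hn : a ∉ zpowers φ) : a ≠ 1 := fun e => hn (e ▸ one_mem _)

theorem abl_le_theta (h : End2 r A θ K φ) (ha : a ∈ A) (hn : a ∉ zpowers φ) : K a ≤ θ a :=
  (h.ac ha hn).1.le

theorem abl_loc (h : End2 r A θ K φ) (hL : Kc A K φ a L) : Loc r (zpowers φ) L :=
  (h.mat_loc hL.mem hL.nmem).sub (zpowers_le.2 h.mem)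
    (hL.ac.le.trans (abl_le_theta h hL.mem hL.nmem)) hL.ac.norm

theorem abl_sim (h : End2 r A θ K φ)
    (hφ : ∀ a ∈ A, a ∉ zpowers φ → ∀ L, AC ⊥ (K a) L → φ ∈ 𝒩(L)) (hL : Kc A K φ a L) : Sim L := by
  obtain ⟨L0, h0⟩ := hL.ac.exists_le (B := ⊥) bot_le
  have h1 := (hL.ac.comp_iff.1 h0).1
  have e := hL.ac.eq_ncl h0
  rw [ncl_eq_self (zpowers_le.2 (hφ a hL.mem hL.nmem L0 h1))] at e
  rw [e]
  exact h1.sim (h.ac hL.mem hL.nmem).2.2.1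

theorem abl_exists_kc (h : End2 r A θ K φ) : ∃ a L, Kc A K φ a L := by
  obtain ⟨a, ha, hn⟩ := h.min.rk.exists_not_zpowers h.mem
  obtain ⟨L, hL⟩ := (h.ac ha hn).1.exists_le (zpowers_le.2 h.mem)
  exact ⟨a, L, ha, hn, hL⟩

theorem abl_gen (h : End2 r A θ K φ)
    (hφ : ∀ a ∈ A, a ∉ zpowers φ → ∀ L, AC ⊥ (K a) L → φ ∈ 𝒩(L)) :
    ∃ p : ℕ, p.Prime ∧ ∀ a L, Kc A K φ a L → GenL p (zpowers φ) L := by
  obtain ⟨a0, L0, h0⟩ := abl_exists_kc h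
  obtain ⟨p, n, hp, hn, hl⟩ := k_lie1 (abl_loc h h0) (abl_sim h hφ h0)
    fun e => h.not_cent h0 (e (mem_zpowers φ))
  refine ⟨p, hp, fun a L hL => ?_⟩
  obtain ⟨e⟩ := h.kc_equiv hL h0
  exact k_gen (abl_loc h hL) (abl_sim h hφ hL) hp hn (hl.equiv e)

theorem abl_le_sup (h : End2 r A θ K φ) (hL : Kc A K φ a L) : K a ≤ L ⊔ 𝒞(L) := by
  obtain ⟨hf, e⟩ := h.fam hL.mem hL.nmem
  rw [← e]; exact hf.sSup_le hL

theorem abl_zc (h : End2 r A θ K φ) (hL : Kc A K φ a L) : L ⊓ 𝒞(L) = ⊥ :=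
  (h.fam hL.mem hL.nmem).1.zc L hL

theorem abl_mem_of_pr (h : End2 r A θ K φ) (ha : a ∈ A) (hn : a ∉ zpowers φ) (hy : y ∈ K a)
    (hX : ∀ L, Kc A K φ a L → pr L y ∈ X) : y ∈ X := by
  obtain ⟨hf, e⟩ := h.fam ha hn
  exact hf.mem_of_pr (e.symm ▸ hy) hX

/-- the projections of the normalizer of `P ⊓ K c` -/
theorem abl_pr_norm (h : End2 r A θ K φ) (hL : Kc A K φ c L) (hx : x ∈ K c ⊓ 𝒩(P ⊓ K c)) :
    pr L x ∈ L ⊓ 𝒩(P ⊓ L) := by
  refine ⟨pr_mem L x, mem_norm_of_cj_le fun z hz => ?_⟩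
  obtain ⟨w, hw, rfl⟩ := mem_cj'.1 hz
  refine ⟨?_, L.mul_mem (L.mul_mem (pr_mem L x) hw.2) (L.inv_mem (pr_mem L x))⟩
  rw [← conj_pr (abl_le_sup h hL hx.1) hw.2]
  exact (conj_mem_of_norm (le_refl 𝒩(P ⊓ K c)) hx.2 ⟨hw.1, hL.ac.le hw.2⟩).1

theorem abl_norm_L (h : End2 r A θ K φ) (hP : MaxQ' r A θ p P) (hL : Kc A K φ c L) :
    zpowers φ ≤ 𝒩(P ⊓ L) := norm_inf ((zpowers_le.2 h.mem).trans hP.mem.norm) hL.ac.norm

theorem abl_comm_Bo (h : End2 r A θ K φ) (hp : p.Prime) (hP : MaxQ' r A θ p P)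
    (hg : ∀ a L, Kc A K φ a L → GenL p (zpowers φ) L) (hc : c ∈ A) (hn : c ∉ zpowers φ) :
    ⁅K c ⊓ 𝒩(P ⊓ K c), K c ⊓ 𝒩(P ⊓ K c)⁆ ≤ P ⊓ K c := by
  refine le_inf (commutator_le.2 fun x hx y hy => ?_) (der_le.trans inf_le_left)
  refine abl_mem_of_pr h hc hn (der_le (commutator_mem_commutator hx.1 hy.1)) fun L hL => ?_
  have hz := abl_zc h hL
  have h1 := abl_le_sup h hL hx.1
  have h2 := abl_le_sup h hL hy.1
  have e : pr L ⁅x, y⁆ = ⁅pr L x, pr L y⁆ := by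
    rw [commutatorElement_def, commutatorElement_def,
      pr_mul hz (mul_mem (mul_mem h1 h2) (inv_mem h1)) (inv_mem h2),
      pr_mul hz (mul_mem h1 h2) (inv_mem h1), pr_mul hz h1 h2, pr_inv hz h1, pr_inv hz h2]
  rw [e]
  exact ((hg c L hL _ (h.syl_L hp hP hL) (abl_norm_L h hP hL)).2.1
    (commutator_mem_commutator (abl_pr_norm h hL hx) (abl_pr_norm h hL hy))).1

theorem abl_le_Bo (h : End2 r A θ K φ) (hp : p.Prime) (hP : MaxQ' r A θ p P) (hL : Kc A K φ c L) :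
    L ⊓ 𝒩(P ⊓ L) ≤ K c ⊓ 𝒩(P ⊓ K c) := by
  intro x hx
  have hxK : x ∈ K c := hL.ac.le hx.1
  refine ⟨hxK, mem_norm_of_cj_le fun z hz => ?_⟩
  obtain ⟨w, hw, rfl⟩ := mem_cj'.1 hz
  have hm : x * w * x⁻¹ ∈ K c := mul_mem (mul_mem hxK hw.2) (inv_mem hxK)
  refine ⟨abl_mem_of_pr h hL.mem hL.nmem hm fun L' hL' => ?_, hm⟩
  have hz := abl_zc h hL'
  have h1 := abl_le_sup h hL' hxK
  have h2 := abl_le_sup h hL' hw.2
  have h3 := h.pr_mem_syl hp hP hL' hw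
  rw [pr_mul hz (mul_mem h1 h2) (inv_mem h1), pr_mul hz h1 h2, pr_inv hz h1]
  by_cases e : L = L'
  · subst e
    rw [pr_of_mem hz hx.1]
    exact (conj_mem_of_norm (le_refl 𝒩(P ⊓ L)) hx.2 ⟨h3, pr_mem L w⟩).1
  · rw [(pr_eq_one_iff hz h1).2 ((h.fam hL.mem hL.nmem).1.comm L hL L' hL' e hx.1)]
    simpa using h3

/-- the subgroup generated by the `P ⊓ K a` -/
def ablP (A : Subgroup G) (K : G → Subgroup G) (φ : G) (P : Subgroup G) : Subgroup G :=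
  sSup {X | ∃ a ∈ A, a ∉ zpowers φ ∧ X = P ⊓ K a}

/-- the Borel subgroups of the diagonal subgroups -/
def ablB (A : Subgroup G) (K : G → Subgroup G) (φ : G) (P : Subgroup G) : Set (Subgroup G) :=
  {X | ∃ a ∈ A, a ∉ zpowers φ ∧ ∃ b ∈ A, b ∉ zpowers a ⊔ zpowers φ ∧
    X = (K a ⊓ 𝒞[b]) ⊓ 𝒩(P ⊓ (K a ⊓ 𝒞[b]))}

theorem ablP_le : ablP A K φ P ≤ P := sSup_le fun _ ⟨_, _, _, e⟩ => e ▸ inf_le_left

theorem le_ablP (ha : a ∈ A) (hn : a ∉ zpowers φ) : P ⊓ K a ≤ ablP A K φ P :=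
  le_sSup ⟨a, ha, hn, rfl⟩

theorem norm_ablP (h : End2 r A θ K φ) (hP : MaxQ' r A θ p P) : A ≤ 𝒩(ablP A K φ P) :=
  NSF.norm_sSup fun _ ⟨_, ha, hn, e⟩ => e ▸ norm_inf hP.mem.norm (h.ac ha hn).1.norm

theorem ablB_le_Bo (h : End2 r A θ K φ) (hp : p.Prime) (hP : MaxQ' r A θ p P) {d : G} (hc : c ∈ A)
    (hn : c ∉ zpowers φ) (hd : d ∈ A) (hnd : d ∉ zpowers c ⊔ zpowers φ) :
    (K c ⊓ 𝒞[d]) ⊓ 𝒩(P ⊓ (K c ⊓ 𝒞[d])) ≤ K c ⊓ 𝒩(P ⊓ K c) :=
  le_inf (inf_le_left.trans inf_le_left) (le_trans (inf_le_inf_right _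
    (inf_le_left.trans (abl_le_theta h hc hn))) (h.norm_syl hp hP hc hn hd hnd))

theorem ablB_norm (h : End2 r A θ K φ) (hp : p.Prime) (hP : MaxQ' r A θ p P)
    (hX : X ∈ ablB A K φ P) : X ≤ 𝒩(ablP A K φ P) := by
  obtain ⟨a, ha, hn, b, hb, hnb, rfl⟩ := hX
  have hB := h.min.rk.line_sup ha (abl_ne_one hn) hb fun e => hnb (mem_sup_left e)
  have e : ablP A K φ P = sSup {X | ∃ c ∈ zpowers a ⊔ zpowers b, c ≠ 1 ∧ X = P ⊓ K c} := by
    refine le_antisymm (sSup_le ?_) (sSup_le ?_)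
    · rintro _ ⟨a', ha', hn', rfl⟩
      refine h.min.rk.le_of_pts hB (hP.mem.pi.inf_left _)
        (hB.le.trans (norm_inf hP.mem.norm (h.ac ha' hn').1.norm)) fun c hc h1 => ?_
      refine le_trans ?_ (le_sSup ⟨c, hc, h1, rfl⟩)
      rw [inf_assoc]
      exact inf_le_inf_left _ (h.bal2 ha' hn' (hB.le hc) (h.diag_of_mem ha hn hb hnb hc h1).1)
    · rintro _ ⟨c, hc, h1, rfl⟩
      exact le_ablP (hB.le hc) (h.diag_of_mem ha hn hb hnb hc h1).1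
  rw [e]
  refine NSF.norm_sSup ?_
  rintro _ ⟨c, hc, h1, rfl⟩
  obtain ⟨hnc, d, hd, hnd, e'⟩ := h.diag_of_mem ha hn hb hnb hc h1
  rw [e']
  exact (ablB_le_Bo h hp hP (hB.le hc) hnc hd hnd).trans inf_le_right

theorem norm_ablB (h : End2 r A θ K φ) (hP : MaxQ' r A θ p P) (hX : X ∈ ablB A K φ P) :
    A ≤ 𝒩(X) := by
  obtain ⟨a, ha, hn, b, hb, -, rfl⟩ := hX
  have h1 : A ≤ 𝒩(K a ⊓ 𝒞[b]) := norm_inf (h.ac ha hn).1.norm (elem_norm_cent1 h.min.sf.elem hb)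
  exact norm_inf h1 (norm_norm (norm_inf hP.mem.norm h1))

theorem ablB_comm (h : End2 r A θ K φ) (hp : p.Prime) (hP : MaxQ' r A θ p P)
    (hg : ∀ a L, Kc A K φ a L → GenL p (zpowers φ) L) (hX : X ∈ ablB A K φ P)
    (hY : Y ∈ ablB A K φ P) : ⁅X, Y⁆ ≤ ablP A K φ P := by
  obtain ⟨a, ha, hn, b, hb, hnb, rfl⟩ := hX
  obtain ⟨a', ha', hn', b', hb', hnb', rfl⟩ := hY
  obtain ⟨c, hc, hnc, ⟨d, hd, hnd, e⟩, d', hd', hnd', e'⟩ :=
    h.exists_common ha hn hb hnb ha' hn' hb' hnb'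
  rw [e, e']
  exact ((commutator_mono (ablB_le_Bo h hp hP hc hnc hd hnd) (ablB_le_Bo h hp hP hc hnc hd' hnd')).trans
    (abl_comm_Bo h hp hP hg hc hnc)).trans (le_ablP hc hnc)

theorem abl_comm_phi (h : End2 r A θ K φ) (hP : MaxQ' r A θ p P) (hc : c ∈ A) (hn : c ∉ zpowers φ)
    (hM : ∀ X ∈ ablB A K φ P, X ≤ M) : ⁅K c ⊓ 𝒩(P ⊓ K c), zpowers φ⁆ ≤ M := by
  have h3 := h.min.rk
  obtain ⟨b, hb, hnb⟩ := h3.exists_not_sup hc h.mem
  have hE := h3.line_sup h.mem h.ne hb fun e => hnb (mem_sup_right e)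
  have hK := (h.ac hc hn).1
  refine comm_le_of_cent1 h3.prime (h3.line_elem hE) (h3.line_card hE).ge
    (((h.min.sf.pi c hc (abl_ne_one hn)).of_le hK.le).inf_left _)
    (hE.le.trans (norm_inf hK.norm (norm_norm (norm_inf hP.mem.norm hK.norm))))
    (mem_sup_left (mem_zpowers φ)) fun e he hne => ?_
  have hnd : e ∉ zpowers c ⊔ zpowers φ := fun hm => hnb (by
    have := h3.exch (zpowers_le.2 h.mem) hb (by rwa [sup_comm] at he) hne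
    exact sup_le (zpowers_le.2 hm) le_sup_right (this ▸ mem_sup_left (mem_zpowers b)))
  refine le_trans ?_ (hM _ ⟨c, hc, hn, e, hE.le he, hnd, rfl⟩)
  refine le_inf (inf_le_inf_right _ inf_le_left) ?_
  rw [← inf_assoc]
  exact norm_inf (inf_le_left.trans inf_le_right) (norm_of_le inf_le_right)

theorem End2.abL (h : End2 r A θ K φ)
    (hL : ∀ a ∈ A, a ∉ zpowers φ → ∀ L, AC ⊥ (K a) L → φ ∈ 𝒩(L)) :
    ∃ H : Subgroup G, IsMulCommutative H ∧ ∀ a L, Kc A K φ a L → L ≤ (L ⊓ 𝒞[φ]) ⊔ (H ⊓ L) := by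
  obtain ⟨p, hp, hg⟩ := abl_gen h hL
  obtain ⟨P, hP⟩ := exists_maxQ' r A θ p
  have h3 := h.min.rk
  have hΦ : zpowers φ ≤ A := zpowers_le.2 h.mem
  have hA1 := norm_ablP h hP
  have hm1 : Mem' r A θ (ablP A K φ P) := hP.mem.sub ablP_le hA1
  obtain ⟨M1, hM1⟩ : ∃ M1, M1 = sSup (insert (ablP A K φ P) (ablB A K φ P)) := ⟨_, rfl⟩
  have hPM1 : ablP A K φ P ≤ M1 := hM1 ▸ le_sSup (Set.mem_insert _ _)
  have hBM1 : ∀ X ∈ ablB A K φ P, X ≤ M1 := fun X hX => hM1 ▸ le_sSup (Set.mem_insert_of_mem _ hX)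
  have hn1 : ∀ X ∈ insert (ablP A K φ P) (ablB A K φ P), X ≤ 𝒩(ablP A K φ P) := by
    rintro X (rfl | hX)
    · exact le_normalizer
    · exact ablB_norm h hp hP hX
  have hAM1 : A ≤ 𝒩(M1) := by
    rw [hM1]
    refine NSF.norm_sSup ?_
    rintro X (rfl | hX)
    · exact hA1
    · exact norm_ablB h hP hX
  have hder : ⁅M1, M1⁆ ≤ ablP A K φ P := by
    rw [hM1]
    refine abl_comm_sSup hn1 ?_
    rintro X (rfl | hX) Y hY
    · exact commutator_le_left_of_norm (hn1 Y hY)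
    · rcases hY with rfl | hY
      · exact commutator_le_right_of_norm (ablB_norm h hp hP hX)
      · exact ablB_comm h hp hP hg hX hY
  have hnM1 : M1 ≤ 𝒩(ablP A K φ P) := hM1 ▸ sSup_le hn1
  have hmem : Mem' r A θ M1 := by
    obtain ⟨M, h1, h2, h4⟩ := exists_maximal_ge (fun R => Mem' r A θ R ∧ R ≤ M1) ⟨hm1, hPM1⟩
    have hn : M1 ≤ 𝒩(M) :=
      le_norm_of_comm_le (((commutator_mono le_rfl h2.2).trans hder).trans h1)
    refine h2.1.sub ?_ hAM1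
    rw [hM1]
    refine sSup_le ?_
    rintro X (rfl | hX)
    · exact h1
    · have hXm : Mem' r A θ X := by
        have h5 := norm_ablB h hP hX
        obtain ⟨a, ha, hn, b, -, -, rfl⟩ := hX
        exact (h.min.sf.mem ha (abl_ne_one hn)).sub
          ((inf_le_left.trans inf_le_left).trans (abl_le_theta h ha hn)) h5
      exact le_sup_right.trans (h4 _ ⟨h.min.sf.mem_sup h2.1 hXm (.inr ((hBM1 X hX).trans hn)),
        sup_le h2.2 (hBM1 X hX)⟩ le_sup_left).le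
  have hPp : IsPi {p} (ablP A K φ P) := hP.pi.of_le ablP_le
  have hs : Group.IsSolvable M1 := solvable_of_quo (solvable_of_nilpotent hPp.nilpotent) hnM1
    (solvable_of_abelian ((quo_abelian_iff hnM1).2 hder))
  obtain ⟨H, hH, hAH⟩ := coprime_hall_exists hAM1 (elem_coprime h3.prime h3.elem le_rfl hmem.pi)
    (elem_solvable h3.elem) hs {p}ᶜ
  refine ⟨H, abelian_iff.2 (commutator_eq_bot_iff.1 (le_bot_iff.1 ?_)), fun c L hc => ?_⟩
  · rw [← hH.pi.inf_eq_bot' hPp]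
    exact le_inf der_le ((der_mono hH.le).trans hder)
  have h1 := abl_ne_one hc.nmem
  have hcA : zpowers c ≤ A := zpowers_le.2 hc.mem
  have hLθ : L ≤ θ c := hc.ac.le.trans (abl_le_theta h hc.mem hc.nmem)
  have hLc : L ≤ 𝒞(zpowers c) := by rw [cent_zpowers]; exact hLθ.trans (h.min.sf.le_cent c hc.mem h1)
  have hU := h.syl_L hp hP hc
  have hH1 : IsPiHallOf {p}ᶜ (H ⊓ L) (M1 ⊓ L) := by
    have h2 := coprime_hall_cent (hcA.trans hAM1) (elem_coprime h3.prime h3.elem hcA hmem.pi)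
      (solvable_of_le (elem_solvable h3.elem) hcA) hs hH (hcA.trans hAH)
    have h4 := h2.inf_normal (inf_le_inf_left M1 hLc) (norm_inf (norm_of_le inf_le_left) (by
      rw [cent_zpowers]; exact (hmem.cent c hc.mem h1).trans (h.norm_kc hc)))
    have e : H ⊓ 𝒞(zpowers c) ⊓ (M1 ⊓ L) = H ⊓ L := le_antisymm
      (inf_le_inf inf_le_left inf_le_right)
      (le_inf (inf_le_inf_left _ hLc) (inf_le_inf_right _ hH.le))
    rwa [e] at h4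
  have hUM : P ⊓ L ≤ M1 ⊓ L := le_inf (((inf_le_inf_left _ hc.ac.le).trans
    (le_ablP hc.mem hc.nmem)).trans hPM1) inf_le_right
  have hpr := ((hU.sub hUM inf_le_right).isProd hH1).inf_of_left_le (le_normalizer : P ⊓ L ≤ _)
  have hΦN : zpowers φ ≤ 𝒩(L ⊓ 𝒩(P ⊓ L)) := norm_inf hc.ac.norm (norm_norm (abl_norm_L h hP hc))
  refine (hg c L hc _ hU (abl_norm_L h hP hc)).2.2 _ (sup_le inf_le_left inf_le_right)
    (norm_sup (norm_inf hc.ac.norm (hΦ.trans (elem_norm_cent1 h3.elem h.mem)))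
      (norm_inf (hΦ.trans hAH) hc.ac.norm)) (by rw [cent_zpowers]; exact le_sup_left) ?_
  rw [← coprime_comm_sup_cent hΦN ((abl_loc h hc).coprime le_rfl inf_le_left)
    (Or.inl (solvable_of_le (elem_solvable h3.elem) hΦ))]
  refine sup_le ?_ (le_sup_of_le_left (le_inf (le_sup_of_le_left ?_) (inf_le_left.trans inf_le_right)))
  · have h5 : ⁅L ⊓ 𝒩(P ⊓ L), zpowers φ⁆ ≤ M1 ⊓ L ⊓ 𝒩(P ⊓ L) := by
      rw [inf_assoc]
      exact le_inf ((commutator_mono (abl_le_Bo h hp hP hc) le_rfl).trans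
        (abl_comm_phi h hP hc.mem hc.nmem hBM1)) (commutator_le_left_of_norm hΦN)
    refine h5.trans ?_
    rw [← hpr.sup_eq, sup_comm]
    exact sup_le_sup_right (inf_le_inf_right _ le_sup_right) _
  · rw [cent_zpowers]; exact inf_le_inf_right _ inf_le_left

end Cfsg.Agent.NSV
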