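import Cfsg.Agent.NSV.Syl

set_option autoImplicit false
set_option linter.unusedSectionVars false

namespace Cfsg.Agent.NSV

open Subgroup Cfsg.Agent.H49 Cfsg.Agent.H44 Cfsg.Agent.H45 Cfsg.Agent.NSF
open scoped commutatorElement

universe u

variable {G : Type u} [Group G] [Finite G] {r p q : ℕ}
  {A B B' D H J J' L L' M N P R S U V X Y Z : Subgroup G} {θ K : G → Subgroup G} {a a' b c g k x y φ : G}

/-- the centre of the Sylow subgroup of a factor is central in the Sylow subgroup of the product -/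
theorem abw_cent {T : Set (Subgroup G)} (h : Fam T) (hL : L ∈ T) (hle : X ≤ sSup T)
    (hp : ∀ y ∈ X, pr L y ∈ P) : P ⊓ L ⊓ 𝒞(P ⊓ L) ≤ 𝒞(X) := fun z hz y hy => by
  have e := conj_pr (h.sSup_le hL (hle hy)) hz.1.2
  rw [hz.2 _ ⟨hp y hy, pr_mem L y⟩, mul_inv_cancel_right] at e
  exact mul_inv_eq_iff_eq_mul.1 e

theorem End2.abW (h : End2 r A θ K φ)
    (hW : ∀ a ∈ A, a ∉ zpowers φ → ∀ L, AC ⊥ (K a) L → φ ∉ 𝒩(L)) :
    ∃ H : Subgroup G, IsMulCommutative H ∧ ∀ a L, Kc A K φ a L → L ≤ (L ⊓ 𝒞[φ]) ⊔ (H ⊓ L) := by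
  obtain ⟨P, hP⟩ := exists_maxQ' r A θ 2
  have rk := h.min.rk
  have hq := Nat.prime_two
  let Z : G × G → Subgroup G := fun x => P ⊓ (K x.1 ⊓ 𝒞[x.2]) ⊓ 𝒞(P ⊓ (K x.1 ⊓ 𝒞[x.2]))
  let I : G × G → Prop := fun x =>
    x.1 ∈ A ∧ x.1 ∉ zpowers φ ∧ x.2 ∈ A ∧ x.2 ∉ zpowers x.1 ⊔ zpowers φ
  refine ⟨⨆ x, ⨆ (_ : I x), Z x, abelian_iff.2 (iSup₂_le fun x hx => cent_symm (iSup₂_le fun y hy => ?_)),
    fun a L hL => ?_⟩
  · obtain ⟨c, hc, hn, ⟨d, hd, hnd, e⟩, d', -, -, e'⟩ :=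
      h.exists_common hy.1 hy.2.1 hy.2.2.1 hy.2.2.2 hx.1 hx.2.1 hx.2.2.1 hx.2.2.2
    simp only [Z, e, e']
    exact ((inf_le_inf_right _ (inf_le_right.trans (inf_le_left.trans (h.syl_le hc hn)))).trans
      (h.cent_syl hq hP hc hn hd hnd)).trans
      (cent_anti (inf_le_left.trans (inf_le_inf_left _ inf_le_left)))
  set H : Subgroup G := ⨆ x, ⨆ (_ : I x), Z x
  have ha := hL.mem
  have hn := hL.nmem
  have a1 := End2.syl_ne hn
  have hΦ : zpowers φ ≤ A := zpowers_le.2 h.mem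
  have loc := h.mat_loc ha hn
  have hLθ : L ≤ θ a := hL.ac.le.trans (h.syl_le ha hn)
  obtain ⟨b, hb, hnb⟩ := rk.exists_not_sup ha h.mem
  have hB := rk.line_sup h.mem h.ne hb fun e => hnb (mem_sup_right e)
  have n1 : A ≤ 𝒩(P ⊓ K a) := norm_inf hP.mem.norm (h.ac ha hn).1.norm
  have h1 : ⁅P ⊓ K a ⊓ 𝒞(P ⊓ K a), zpowers φ⁆ ≤ H := by
    refine comm_le_of_cent1 rk.prime (rk.line_elem hB) (rk.line_card hB).ge
      (hP.mem.pi.of_le (inf_le_left.trans inf_le_left)) (hB.le.trans (norm_inf n1 (norm_cent n1)))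
      (mem_sup_left (mem_zpowers φ)) fun e he hne => ?_
    refine le_trans ?_ (le_iSup₂_of_le (a, e) ⟨ha, hn, hB.le he, fun h2 => hnb ?_⟩ le_rfl)
    · exact fun x hx => ⟨⟨hx.1.1.1, hx.1.1.2, hx.2⟩,
        cent_anti (inf_le_inf_left _ inf_le_left) hx.1.2⟩
    · rw [sup_comm] at he
      exact sup_le (zpowers_le.2 h2) le_sup_right
        ((rk.exch hΦ hb he hne).ge (mem_sup_left (mem_zpowers b)))
  have h2 : P ⊓ L ⊓ 𝒞(P ⊓ L) ≤ (L ⊓ 𝒞[φ]) ⊔ (H ⊓ L) := by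
    have n2 : zpowers φ ≤ 𝒩(P ⊓ L) := norm_inf (hΦ.trans hP.mem.norm) hL.ac.norm
    have n3 := norm_inf n2 (norm_cent n2)
    have hle : P ⊓ L ⊓ 𝒞(P ⊓ L) ≤ L := inf_le_left.trans inf_le_right
    rw [← coprime_comm_sup_cent n3 (loc.coprime hΦ (hle.trans hLθ)) (.inl (loc.solv hΦ)), cent_zpowers]
    refine sup_le (le_sup_of_le_right (le_inf (le_trans (commutator_mono (le_inf
      (inf_le_left.trans (inf_le_inf_left _ hL.ac.le)) ?_) le_rfl) h1)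
      ((commutator_le_left_of_norm n3).trans hle))) (le_sup_of_le_left (inf_le_inf_right _ hle))
    exact abw_cent (h.fam ha hn).1 hL (inf_le_right.trans (h.fam ha hn).2.ge)
      fun y hy => h.pr_mem_syl hq hP hL hy
  have hs : sol L = ⊥ := by rw [hL.ac.sol_eq, (h.ac ha hn).2.2.1, bot_inf_eq]
  have fam := fam_ac ⊥ hs
  have hT := hL.ac.eq_sSup_bot
  refine hT.le.trans (sSup_le fun M hM => ?_)
  have hM' : AC ⊥ L M := hM
  have hbot : zpowers φ ⊓ 𝒩(M) = ⊥ := by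
    rw [inf_comm]; exact rk.inf_zpowers h.mem (hW a ha hn M (hL.ac.comp_iff.1 hM').1)
  have hS := h.syl_L hq hP hL
  refine inf_eq_right.1 (((hM'.sim hs).eq_or inf_le_right (le_norm_iff.2 fun k hk n hn => ?_)).resolve_left
    fun e => ?_)
  · obtain ⟨y, hy, e, -⟩ := fam.exists_diag (B := zpowers φ)
      (fun c hc M hM => AC.cj hM (hL.ac.norm hc) (norm_bot.ge (mem_top _))) hM (k := k)
      ⟨hk, by rw [hbot, cent_bot]; exact mem_top _⟩
    have hyL : y ∈ L := (iSup_le fun c => cj_le_of_mem_norm (zpowers_le.2 (hM'.le hk))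
      (hL.ac.norm c.2) : ncl (zpowers k) (zpowers φ) ≤ L) hy.1
    refine mem_inf.2 ⟨?_, mul_mem (mul_mem hk hn.2) (inv_mem hk)⟩
    have hyX : y ∈ (L ⊓ 𝒞[φ]) ⊔ (H ⊓ L) := mem_sup_left ⟨hyL, cent_zpowers φ ▸ hy.2⟩
    rw [← e, ← conj_pr (fam.sSup_le hM (hT.le hyL)) hn.2]
    exact mul_mem (mul_mem hyX hn.1) (inv_mem hyX)
  · have hS' := hS.inf_normal hM'.le (hT.le.trans (fam.norm hM))
    rw [inf_assoc, inf_eq_right.2 hM'.le] at hS'
    haveI := Fact.mk hq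
    refine center_ne_bot_of_nilpotent ((isPi_singleton_iff hq).1 hS'.pi).isNilpotent
      (hS'.ne_bot hq rfl (even_iff_two_dvd.1 (Nat.not_odd_iff_even.1 fun o => hM'.nsol (S0205.result o))))
      (eq_bot_iff.2 (e ▸ le_inf (le_trans (le_inf (inf_le_left.trans (inf_le_inf_left _ hM'.le)) ?_) h2)
        (inf_le_left.trans inf_le_right)))
    exact abw_cent fam hM (inf_le_right.trans hT.le) fun y hy =>
      (fam.pr_mem_sylow hM (p := 2) (by rw [← hT]; exact hS) hy).1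

end Cfsg.Agent.NSV
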