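/-
Signalizer functors with values in `K`-groups: the final construction of the completion.
-/
import Cfsg.Agent.NSV.Mat
import Cfsg.Agent.NSV.Kg
import Cfsg.Agent.H3.Transfer2
import Cfsg.Agent.H44.PLayer

set_option autoImplicit false
set_option linter.unusedSectionVars false

namespace Cfsg.Agent.NSV

open Subgroup Cfsg.Agent.H49 Cfsg.Agent.H44 Cfsg.Agent.H45 Cfsg.Agent.NSF
open scoped commutatorElement

universe u

variable {G : Type u} [Group G] [Finite G] {r p q : ℕ}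
  {A B B' D H J J' L L' M N P R S U V X Y Z : Subgroup G} {θ K : G → Subgroup G} {a a' b c g k x y φ : G}

theorem fin_transfer {T O : Subgroup G} (hq : q.Prime) (hT : IsSylowOf q T M) (hp : ⁅M, M⁆ = M)
    (hO : O ≤ T) (hc : O ≤ 𝒞(M)) : O ≤ ⁅T, T⁆ := by
  have := Fact.mk hq
  obtain ⟨Q, rfl⟩ := exists_sylow_of hq hT
  intro z hz
  obtain ⟨w, hw, rfl⟩ := hO hz
  rw [← Subgroup.map_commutator]
  refine ⟨w, H3.center_inf_commutator_inf_sylow_le Q ⟨⟨?_, ?_⟩, hw⟩, rfl⟩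
  · exact Subgroup.mem_center_iff.2 fun g => Subtype.ext (hc hz g g.2)
  · have : (w : G) ∈ (commutator M).map M.subtype := by
      rw [map_subtype_commutator, hp]; exact w.2
    obtain ⟨v, hv, e⟩ := this
    exact (Subtype.ext e : v = w) ▸ hv

theorem fin_le_of_idx {π : Set ℕ} (hX : IsPi π X) (hle : X ≤ L ⊔ N) (hn : L ≤ 𝒩(N))
    (hi : IsPiNat πᶜ (N.relIndex L)) : X ≤ N := by
  refine hX.le_of_relIndex (hi.of_dvd ?_)
  rw [← relIndex_sup_of_norm (Or.inl hn)]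
  exact relIndex_dvd_of_norm (sup_le hn le_normalizer) hle

/-- The subgroup generated by the `K a`, `a ∉ ⟨φ⟩`. -/
def finG (A : Subgroup G) (K : G → Subgroup G) (φ : G) : Subgroup G :=
  sSup {X | ∃ a ∈ A, a ∉ zpowers φ ∧ X = K a}

/-- The components in the direction `a` with fixed points `R`. -/
def finGl (A : Subgroup G) (K : G → Subgroup G) (φ a : G) (R : Subgroup G) : Subgroup G :=
  sSup {L | ∃ e ∈ zpowers a ⊔ zpowers φ, Kc A K φ e L ∧ L ⊓ 𝒞[φ] = R}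

/-- The components in the direction `a` with fixed points other than `R`. -/
def finN (A : Subgroup G) (K : G → Subgroup G) (φ a : G) (R : Subgroup G) : Subgroup G :=
  sSup {L | ∃ e ∈ zpowers a ⊔ zpowers φ, Kc A K φ e L ∧ L ⊓ 𝒞[φ] ≠ R}

theorem fin_K_le (ha : a ∈ A) (hn : a ∉ zpowers φ) : K a ≤ finG A K φ := le_sSup ⟨a, ha, hn, rfl⟩

theorem fin_kc_le (hL : Kc A K φ a L) : L ≤ finG A K φ := hL.ac.le.trans (fin_K_le hL.mem hL.nmem)

theorem finGl_le : finGl A K φ a R ≤ finG A K φ := sSup_le fun _ ⟨_, _, h, _⟩ => fin_kc_le h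

theorem finN_le : finN A K φ a R ≤ finG A K φ := sSup_le fun _ ⟨_, _, h, _⟩ => fin_kc_le h

theorem fin_ne_one (hn : a ∉ zpowers φ) : a ≠ 1 := fun e => hn (e ▸ one_mem _)

namespace End2

variable (h : End2 r A θ K φ)
include h

theorem fin_rk : Rk3 r A := h.min.rk

theorem fin_phi : zpowers φ ≤ A := zpowers_le.2 h.mem

theorem fin_perf : ⁅finG A K φ, finG A K φ⁆ = finG A K φ :=
  perf_sSup fun _ ⟨_, ha, hn, e⟩ => e ▸ (h.ac ha hn).1.perf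

theorem fin_normG : A ≤ 𝒩(finG A K φ) :=
  NSF.norm_sSup fun _ ⟨_, ha, hn, e⟩ => e ▸ (h.ac ha hn).1.norm

theorem fin_theta_le (ha : a ∈ A) (h1 : a ≠ 1) : θ a ≤ finG A K φ := by
  refine (h.gen a ha h1).trans (iSup₂_le fun b ⟨hb, hb1⟩ => ?_)
  rcases h.cases b hb hb1 with e | ⟨hK, hs, -⟩
  · rw [e]; exact bot_le
  have := (h.toEnd.loc hb hb1 hK.ne_bot).gen (Z := finG A K φ) h.fin_rk hK hb hb1 (h.min.sf.le_cent b hb hb1)
    fun B hB _ => by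
      obtain ⟨c, hc, hn⟩ := h.fin_rk.exists_not_mem' hB h.mem
      exact ((res_mono (inf_le_inf_left _ (cent_le_cent1 hc))).trans
        (h.bal b hb hb1 c (hB.le hc) (fin_ne_one hn))).trans (fin_K_le (hB.le hc) hn)
  rwa [hK.sol_eq, hs, bot_inf_eq, sup_bot_eq] at this

theorem fin_K_cent (ha : a ∈ A) (hn : a ∉ zpowers φ) : K a ≤ 𝒞[a] :=
  (h.ac ha hn).1.le.trans (h.min.sf.le_cent a ha (fin_ne_one hn))

theorem fin_K_pi (ha : a ∈ A) (hn : a ∉ zpowers φ) : IsPi {r}ᶜ (K a) :=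
  (h.min.sf.pi a ha (fin_ne_one hn)).of_le (h.ac ha hn).1.le

theorem fin_comm (ha : a ∈ A) (hn : a ∉ zpowers φ) : ⁅K a, zpowers φ⁆ = K a := by
  obtain ⟨hK, -, hs, -⟩ := h.ac ha hn
  have hle : ⁅K a, zpowers φ⁆ ≤ K a := commutator_le_left_of_norm (h.fin_phi.trans hK.norm)
  have hN : K a ≤ 𝒩(⁅K a, zpowers φ⁆) := le_norm_commutator_left _ _
  rcases hK.simp _ hle hN (norm_commutator hK.norm (elem_norm_of_le h.fin_rk.elem h.fin_phi))
    with e | e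
  · exact e
  · have h0 := le_sol hle hN e
    rw [hs, le_bot_iff, H49.commutator_eq_bot_iff, cent_comm] at h0
    have : φ ∈ zpowers a := h.cent a ha hn ▸ ⟨h.mem, h0 (mem_zpowers φ)⟩
    exact absurd (h.fin_rk.mem_zpowers_comm ha this h.ne) hn

theorem fin_dir (ha : a ∈ A) (hn : a ∉ zpowers φ)
    (hX : ∀ e ∈ zpowers a ⊔ zpowers φ, ∀ L, Kc A K φ e L → L ≤ X) : finG A K φ ≤ X := by
  have hE := h.fin_rk.line_sup h.mem h.ne ha hn
  rw [sup_comm] at hE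
  have h1 : ∀ e ∈ zpowers a ⊔ zpowers φ, e ∉ zpowers φ → K e ≤ X := fun e he hen => by
    rw [← (h.fam (hE.le he) hen).2]
    exact sSup_le fun L hL => hX e he L hL
  refine sSup_le ?_
  rintro _ ⟨b, hb, hbn, rfl⟩
  rw [← h.fin_comm hb hbn]
  exact comm_le_of_cent1 h.fin_rk.prime (h.fin_rk.line_elem hE) (h.fin_rk.line_card hE).ge
    (h.fin_K_pi hb hbn) (hE.le.trans (h.ac hb hbn).1.norm) (mem_sup_right (mem_zpowers φ))
    fun e he hen => (h.bal2 hb hbn (hE.le he) hen).trans (h1 e he hen)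

theorem fin_split (ha : a ∈ A) (hn : a ∉ zpowers φ) (R : Subgroup G) :
    finG A K φ ≤ finGl A K φ a R ⊔ finN A K φ a R :=
  h.fin_dir ha hn fun e he L hL => by
    by_cases hR : L ⊓ 𝒞[φ] = R
    · exact le_sup_of_le_left (le_sSup ⟨e, he, hL, hR⟩)
    · exact le_sup_of_le_right (le_sSup ⟨e, he, hL, hR⟩)

theorem fin_rest (hL : Kc A K φ a' L) (ha : a' ∈ zpowers a ⊔ zpowers φ) (hy : y ∈ K a') :
    (pr L y)⁻¹ * y ∈ finN A K φ a (L ⊓ 𝒞[φ]) := by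
  obtain ⟨hF, hS⟩ := h.fam hL.mem hL.nmem
  have hz : (pr L y)⁻¹ * y ∈ sSup {L | Kc A K φ a' L} := by
    rw [hS]; exact mul_mem (inv_mem (hL.ac.le (pr_mem L y))) hy
  refine hF.mem_of_pr hz fun L' hL' => ?_
  by_cases e : L' = L
  · rw [e, (pr_eq_one_iff (hF.zc L hL) (hF.sSup_le hL hz)).2
      (pr_spec (hF.sSup_le hL (hS.ge hy)))]
    exact one_mem _
  · refine (le_sSup ⟨a', ha, hL', fun e' => h.fix_ne_bot hL (eq_bot_iff.2 ?_)⟩ :
      L' ≤ finN A K φ a (L ⊓ 𝒞[φ])) (pr_mem L' _)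
    rw [← hF.zc L hL]
    exact le_inf inf_le_left (e'.ge.trans (inf_le_left.trans (hF.comm L' hL' L hL e)))

theorem fin_nmem (hb : b ∈ A) (hbn : b ∉ zpowers a ⊔ zpowers φ) {e e' : G}
    (he : e ∈ zpowers a ⊔ zpowers φ) (he' : e' ∈ zpowers b ⊔ zpowers φ) (hn' : e' ∉ zpowers φ) :
    e' ∉ zpowers e ⊔ zpowers φ := fun hm =>
  hbn (sup_le (zpowers_le.2 (sup_le (zpowers_le.2 he) le_sup_right hm)) le_sup_right
    ((h.fin_rk.exch h.fin_phi hb he' hn').ge (mem_sup_left (mem_zpowers b))))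

theorem fin_sup (hb : b ∈ A) (hbn : b ∉ zpowers a ⊔ zpowers φ)
    (hL : Kc A K φ a' L) (ha' : a' ∈ zpowers a ⊔ zpowers φ) (R : Subgroup G) :
    finG A K φ ≤ L ⊔ (finN A K φ a (L ⊓ 𝒞[φ]) ⊔ finN A K φ b R) := by
  refine (h.fin_split hb (fun e => hbn (mem_sup_right e)) R).trans
    (sup_le (sSup_le ?_) (le_sup_of_le_right le_sup_right))
  rintro L' ⟨e, he, hL', rfl⟩ l hl
  have h1 : e ∉ zpowers a' ⊔ zpowers φ := h.fin_nmem hb hbn ha' he hL'.nmem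
  have h2 : a' ∉ zpowers e ⊔ zpowers φ := h.fin_rk.not_mem_symm hL'.mem h.fin_phi hL.nmem h1
  obtain ⟨f, hf⟩ := h.diag hL' hL.mem h2
  obtain ⟨⟨y, hy⟩, e1⟩ := f.surjective ⟨l, hl⟩
  have e2 : pr L' y = l := (hf ⟨y, hy⟩).symm.trans (congrArg Subtype.val e1)
  have hy' : y ∈ K a' ⊓ 𝒞[e] := h.diag_eq hL'.mem hL'.nmem hL.mem h2 ▸ hy
  have e3 : l = pr L y * (((pr L y)⁻¹ * y) * ((pr L' y)⁻¹ * y)⁻¹) := by rw [e2]; group
  rw [e3]
  exact mul_mem_sup (pr_mem L y)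
    (mul_mem_sup (h.fin_rest hL ha' hy'.1) (inv_mem (h.fin_rest hL' he hy.1)))

theorem fin_cj (hc : c ∈ A) (a : G) (R : Subgroup G) :
    H49.cj c (finN A K φ a R) ≤ finN A K φ a (H49.cj c R) := by
  rw [cj_le_iff]
  refine sSup_le ?_
  rintro L ⟨e, he, hL, hR⟩
  rw [← cj_le_iff]
  refine le_sSup ⟨e, he, hL.cj h hc, fun e' => hR ?_⟩
  rw [← cj_eq_of_mem (X := 𝒞[φ]) (cent_le_cent1 h.mem (abelian_iff.1 h.fin_rk.comm hc)),
    ← cj_inf] at e'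
  exact le_antisymm (cj_le_cj_iff.1 e'.le) (cj_le_cj_iff.1 e'.ge)

variable (hc : ∀ a a' L L', Kc A K φ a L → Kc A K φ a' L' → a' ∈ zpowers a ⊔ zpowers φ →
  L' ⊓ 𝒞[φ] ≠ L ⊓ 𝒞[φ] → L' ≤ 𝒞(L))
include hc

theorem fin_N_cent (ha : a ∈ A) (R : Subgroup G) : finN A K φ a R ≤ 𝒞(finGl A K φ a R) := by
  refine sSup_le ?_
  rintro L' ⟨e', he', hL', hR'⟩
  refine cent_symm (sSup_le ?_)
  rintro L ⟨e, he, hL, rfl⟩
  exact cent_symm (hc e e' L L' hL hL' ((h.fin_rk.exch h.fin_phi ha he hL.nmem).ge he') hR')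

theorem fin_norm_Gl (ha : a ∈ A) (hn : a ∉ zpowers φ) (R : Subgroup G) :
    finG A K φ ≤ 𝒩(finGl A K φ a R) :=
  (h.fin_split ha hn R).trans (sup_le le_normalizer (norm_of_cent (h.fin_N_cent hc ha R)))

theorem fin_norm_N (ha : a ∈ A) (hn : a ∉ zpowers φ) (R : Subgroup G) :
    finG A K φ ≤ 𝒩(finN A K φ a R) :=
  (h.fin_split ha hn R).trans
    (sup_le (norm_of_cent (cent_symm (h.fin_N_cent hc ha R))) le_normalizer)

omit hc in
theorem fin_le_Gl (ha : a ∈ A) (hn : a ∉ zpowers φ) :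
    finG A K φ ≤ sSup {X | ∃ L, Kc A K φ a L ∧ X = finGl A K φ a (L ⊓ 𝒞[φ])} :=
  h.fin_dir ha hn fun e he L hL => by
    obtain ⟨L', hL', e'⟩ := h.exists_match hL
      ((h.fin_rk.exch h.fin_phi ha he hL.nmem).ge (mem_sup_left (mem_zpowers a))) hn
    exact le_trans (le_sSup ⟨e, he, hL, e'.symm⟩ : L ≤ finGl A K φ a (L' ⊓ 𝒞[φ]))
      (le_sSup ⟨L', hL', rfl⟩)

theorem fin_central (ha : a ∈ A) (hn : a ∉ zpowers φ) (hb : b ∈ A) (hbn : b ∉ zpowers φ)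
    (hx : ∀ L L', Kc A K φ a L → Kc A K φ b L' →
      x ∈ finN A K φ a (L ⊓ 𝒞[φ]) ⊔ finN A K φ b (L' ⊓ 𝒞[φ])) : x ∈ 𝒞(finG A K φ) := by
  set W : Subgroup G := sSup {X | ∃ L L', Kc A K φ a L ∧ Kc A K φ b L' ∧
    X = ⁅finGl A K φ a (L ⊓ 𝒞[φ]), finGl A K φ b (L' ⊓ 𝒞[φ])⁆} with hW
  have hn' : finG A K φ ≤ 𝒩(W) := NSF.norm_sSup fun _ ⟨_, _, _, _, e⟩ =>
    e ▸ norm_commutator (h.fin_norm_Gl hc ha hn _) (h.fin_norm_Gl hc hb hbn _)
  have h1 : finG A K φ ≤ W := by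
    rw [← h.fin_perf]
    refine (commutator_mono (h.fin_le_Gl ha hn) (h.fin_le_Gl hb hbn)).trans
      (commutator_sSup_le_of_normal (H := finG A K φ) (fun _ ⟨_, _, e⟩ => e ▸ finGl_le) hn' ?_)
    rintro _ ⟨L, hL, rfl⟩
    rw [commutator_comm]
    refine commutator_sSup_le_of_normal (H := finG A K φ) (fun _ ⟨_, _, e⟩ => e ▸ finGl_le) hn' ?_
    rintro _ ⟨L', hL', rfl⟩
    rw [commutator_comm]
    exact le_sSup ⟨L, L', hL, hL', rfl⟩
  refine le_cent1_iff.1 (h1.trans (sSup_le ?_))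
  rintro _ ⟨L, L', hL, hL', rfl⟩
  refine le_cent1_iff.2 (SetLike.le_def.1 (sup_le ?_ ?_) (hx L L' hL hL'))
  · exact (h.fin_N_cent hc ha _).trans
      (cent_anti (commutator_le_left_of_norm (finGl_le.trans (h.fin_norm_Gl hc ha hn _))))
  · exact (h.fin_N_cent hc hb _).trans
      (cent_anti (commutator_le_right_of_norm (finGl_le.trans (h.fin_norm_Gl hc hb hbn _))))

theorem fin_pi : IsPi {r}ᶜ (finG A K φ) := by
  obtain ⟨a, ha, hn⟩ := h.fin_rk.exists_not_zpowers h.mem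
  obtain ⟨b, hb, hbn⟩ := h.fin_rk.exists_not_sup ha h.mem
  have hbn' : b ∉ zpowers φ := fun e => hbn (mem_sup_right e)
  obtain ⟨T, hT⟩ := exists_sylowOf r (finG A K φ)
  have h1 : T ≤ 𝒞(finG A K φ) := fun x hx => h.fin_central hc ha hn hb hbn' fun L L' hL _ =>
    fin_le_of_idx hT.pi
      (hT.le.trans (h.fin_sup hb hbn hL (mem_sup_left (mem_zpowers a)) _))
      ((fin_kc_le hL).trans (norm_sup (h.fin_norm_N hc ha hn _) (h.fin_norm_N hc hb hbn' _)))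
      (((h.fin_K_pi ha hn).of_le hL.ac.le).relIndex _) hx
  have h2 := fin_transfer h.fin_rk.prime hT h.fin_perf le_rfl h1
  rw [commutator_eq_bot_iff.2 (h1.trans (cent_anti hT.le)), le_bot_iff] at h2
  subst h2
  exact hT.compl_of_eq_bot

theorem fin_cent (ha : a ∈ A) (hn : a ∉ zpowers φ) :
    finG A K φ ⊓ 𝒞[a] ≤ K a ⊔ (finG A K φ ⊓ 𝒞(finG A K φ)) := by
  intro x hx0
  obtain ⟨hx, hxa⟩ := Subgroup.mem_inf.1 hx0
  obtain ⟨b, hb, hbn⟩ := h.fin_rk.exists_not_sup ha h.mem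
  have hbn' : b ∉ zpowers φ := fun e => hbn (mem_sup_right e)
  obtain ⟨L2, hL2⟩ := (h.ac hb hbn').1.exists_le h.fin_phi
  have hL2 : Kc A K φ b L2 := ⟨hb, hbn', hL2⟩
  obtain ⟨hF, hS⟩ := h.fam ha hn
  have h1 : ∀ L : Subgroup G, ∃ k : G, Kc A K φ a L → k ∈ L ∧
      k⁻¹ * x ∈ finN A K φ a (L ⊓ 𝒞[φ]) ⊔ finN A K φ b (L2 ⊓ 𝒞[φ]) := fun L => by
    by_cases hL : Kc A K φ a L
    · obtain ⟨k, hk, n, hn', e⟩ := (mem_sup_of_norm_right ((fin_kc_le hL).trans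
        (norm_sup (h.fin_norm_N hc ha hn _) (h.fin_norm_N hc hb hbn' _)))).1
        (h.fin_sup hb hbn hL (mem_sup_left (mem_zpowers a)) _ hx)
      exact ⟨k, fun _ => ⟨hk, by rw [e, inv_mul_cancel_left]; exact hn'⟩⟩
    · exact ⟨1, fun e => absurd e hL⟩
  choose f hf using h1
  obtain ⟨k, hk, hk'⟩ := hF.exists_prod f fun L hL => (hf L hL).1
  rw [hS] at hk
  have hy : k⁻¹ * x ∈ 𝒞[a] := mul_mem (inv_mem (h.fin_K_cent ha hn hk)) hxa
  have e0 : x = k * (k⁻¹ * x) := by group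
  rw [e0]
  refine mul_mem_sup hk (Subgroup.mem_inf.2 ⟨mul_mem (inv_mem (fin_K_le ha hn hk)) hx,
    h.fin_central hc ha hn hb hbn' fun L L' hL hL' => ?_⟩)
  have h2 : k⁻¹ * x ∈ finN A K φ a (L ⊓ 𝒞[φ]) ⊔ finN A K φ b (L2 ⊓ 𝒞[φ]) := by
    have e1 : k⁻¹ * x = ((pr L k)⁻¹ * k)⁻¹ * ((f L)⁻¹ * x) := by rw [hk' L hL]; group
    rw [e1]
    exact mul_mem (mem_sup_left (inv_mem (h.fin_rest hL (mem_sup_left (mem_zpowers a)) hk)))
      (hf L hL).2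
  obtain ⟨c, hca, rfl⟩ := h.trans hL2 hL' ha (h.fin_rk.not_mem_symm hb h.fin_phi hn hbn)
  have hcA : c ∈ A := zpowers_le.2 ha hca
  have hcφ : H49.cj c 𝒞[φ] = 𝒞[φ] :=
    cj_eq_of_mem (cent_le_cent1 h.mem (abelian_iff.1 h.fin_rk.comm hcA))
  have hcL : H49.cj c L = L := cj_eq_of_mem_cent
    (cent_symm ((hL.ac.le.trans (h.fin_K_cent ha hn)).trans (cent_zpowers a).ge) hca)
  have h3 : k⁻¹ * x ∈ H49.cj c (finN A K φ a (L ⊓ 𝒞[φ]) ⊔ finN A K φ b (L2 ⊓ 𝒞[φ])) := by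
    have e1 : c * (k⁻¹ * x) = (k⁻¹ * x) * c := (cent_zpowers a).ge hy c hca
    rw [H49.mem_cj, mul_assoc, ← e1, inv_mul_cancel_left]
    exact h2
  rw [cj_sup] at h3
  have h4 := sup_le_sup (h.fin_cj hcA a (L ⊓ 𝒞[φ])) (h.fin_cj hcA b (L2 ⊓ 𝒞[φ])) h3
  rwa [cj_inf, cj_inf, hcφ, hcL] at h4

omit hc in
theorem fin_line : ∃ B, Line r A B ∧ ∀ b ∈ B, b ≠ 1 → b ∉ zpowers φ := by
  obtain ⟨a, ha, hn⟩ := h.fin_rk.exists_not_zpowers h.mem
  obtain ⟨b, hb, hbn⟩ := h.fin_rk.exists_not_sup h.mem ha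
  have h1 : φ ∉ zpowers a := fun e => hn (h.fin_rk.mem_zpowers_comm ha e h.ne)
  have h2 := h.fin_rk.not_mem_symm hb (zpowers_le.2 ha) h1 hbn
  rw [sup_comm] at h2
  exact ⟨_, h.fin_rk.line_sup ha (fin_ne_one hn) hb fun e => hbn (mem_sup_right e),
    fun c hc h1 e => h2 (zpowers_le.2 hc (h.fin_rk.mem_zpowers_comm h.mem e h1))⟩

theorem fin_center : finG A K φ ⊓ 𝒞(finG A K φ) = ⊥ := by
  by_contra hne
  set Z := finG A K φ ⊓ 𝒞(finG A K φ) with hZ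
  obtain ⟨q, hq, hqd⟩ := Nat.exists_prime_and_dvd fun e : Nat.card Z = 1 => hne (card_eq_one.1 e)
  obtain ⟨O, hO⟩ := exists_sylowOf q Z
  obtain ⟨P, hP⟩ := exists_maxQ' r A θ q
  obtain ⟨B, hB, hBφ⟩ := h.fin_line
  have hZc : Z ≤ 𝒞(finG A K φ) := inf_le_right
  have hOc : O ≤ 𝒞(finG A K φ) := hO.le.trans hZc
  have hOG : O ≤ finG A K φ := hO.le.trans inf_le_left
  have hAO : A ≤ 𝒩(O) := (norm_inf h.fin_normG (norm_cent h.fin_normG)).trans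
    (hO.norm_of_normal (norm_of_cent (hZc.trans (cent_anti hOG))))
  have hPG : P ≤ finG A K φ := h.fin_rk.le_of_pts hB hP.mem.pi (hB.le.trans hP.mem.norm)
    fun b hb h1 => (hP.mem.cent b (hB.le hb) h1).trans (h.fin_theta_le (hB.le hb) h1)
  obtain ⟨T, hT, hAT, hle⟩ := inv_sylow_ge h.fin_rk.prime hq
    (isPi_of_isPGroup h.fin_rk.prime (H46.isPGroup_of_isElementaryAbelian h.fin_rk.elem))
    (h.fin_pi hc) h.fin_normG
    (hP.pi.sup hO.pi (Or.inr (norm_of_cent (hOc.trans (cent_anti hPG))))) (sup_le hPG hOG)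
    (norm_sup hP.mem.norm hAO)
  have h1 : T ≤ P ⊔ O := h.fin_rk.le_of_pts hB ((h.fin_pi hc).of_le hT.le) (hB.le.trans hAT)
    fun b hb hb1 => by
      have hbA := hB.le hb
      have hbn := hBφ b hb hb1
      have hKG : K b ≤ finG A K φ := fin_K_le hbA hbn
      have hS : IsSylowOf q (P ⊓ K b) (K b) := h.min.sf.sylow_inf h.min.card.ge hq hP
        ((h.min.sf.mem hbA hb1).sub (h.ac hbA hbn).1.le (h.ac hbA hbn).1.norm)
        (((h.min.sf.sInf_eq le_rfl hbA hb1).le.trans inf_le_left).trans (h.norm b hbA hb1))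
      have h2 : T ⊓ 𝒞[b] ≤ K b ⊔ O := fin_le_of_idx (L := Z) (hT.pi.inf_left _)
        (((inf_le_inf_right _ hT.le).trans (h.fin_cent hc hbA hbn)).trans
          (sup_le (le_sup_of_le_right le_sup_left) le_sup_left))
        (norm_of_cent (hZc.trans (cent_anti (sup_le hKG hOG)))) (hO.index_of_le le_sup_right)
      have h3 : P ⊓ K b = T ⊓ K b :=
        hS.eq_of_le (inf_le_inf_right _ (le_sup_left.trans hle)) inf_le_right (hT.pi.inf_left _)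
      intro t ht
      obtain ⟨k, hk, o, ho, e⟩ :=
        (mem_sup_of_norm_left (norm_of_cent (hOc.trans (cent_anti hKG)))).1 (h2 ht)
      have hkT : k ∈ T := by
        rw [show k = t * o⁻¹ by rw [e]; group]
        exact mul_mem ht.1 (inv_mem (hle (mem_sup_right ho)))
      rw [e]
      exact mul_mem_sup (h3.ge ⟨hkT, hk⟩).1 ho
  have h2 : O ≤ P := by
    refine (fin_transfer hq hT h.fin_perf (le_sup_right.trans hle) hOc).trans
      ((der_mono h1).trans ?_)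
    rw [commutator_sup_of_centralizes (commutator_eq_bot_iff.2 (hOc.trans (cent_anti hPG)))
      (commutator_eq_bot_iff.2 (hOc.trans (cent_anti hOG)))]
    exact der_le
  refine hO.ne_bot hq rfl hqd (le_bot_iff.1 (h.fin_rk.le_of_pts hB (hP.mem.pi.of_le h2)
    (hB.le.trans hAO) fun b hb h1 => ?_))
  rw [← (h.ac (hB.le hb) (hBφ b hb h1)).2.2.2]
  exact le_inf ((inf_le_inf_right _ h2).trans (hP.mem.cent b (hB.le hb) h1))
    (inf_le_left.trans (hOc.trans (cent_anti (fin_K_le (hB.le hb) (hBφ b hb h1)))))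

end End2

theorem End2.concl (h : End2 r A θ K φ)
    (hc : ∀ a a' L L', Kc A K φ a L → Kc A K φ a' L' → a' ∈ zpowers a ⊔ zpowers φ →
      L' ⊓ 𝒞[φ] ≠ L ⊓ 𝒞[φ] → L' ≤ 𝒞(L)) :
    Mem' r A θ (finG A K φ) ∧ Cfsg.IsKGroup (finG A K φ) := by
  obtain ⟨B, hB, hBφ⟩ := h.fin_line
  refine ⟨⟨h.fin_pi hc, h.fin_normG, fun a ha h1 => h.fin_rk.le_of_pts hB ((h.fin_pi hc).inf_left _)
    (hB.le.trans (norm_inf h.fin_normG (elem_norm_cent1 h.fin_rk.elem ha))) fun b hb hb1 => ?_⟩, ?_⟩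
  · refine le_trans (le_inf ?_ (inf_le_left.trans inf_le_right)) (h.min.sf.bal b (hB.le hb) hb1 a ha h1)
    refine (inf_le_inf_right _ inf_le_left).trans ((h.fin_cent hc (hB.le hb) (hBφ b hb hb1)).trans ?_)
    rw [h.fin_center hc, sup_bot_eq]
    exact (h.ac (hB.le hb) (hBφ b hb hb1)).1.le
  obtain ⟨a, ha, hn⟩ := h.fin_rk.exists_not_zpowers h.mem
  obtain ⟨b, hb, hbn⟩ := h.fin_rk.exists_not_sup ha h.mem
  have hbn' : b ∉ zpowers φ := fun e => hbn (mem_sup_right e)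
  suffices H : ∀ Y ≤ finG A K φ, Cfsg.IsKGroup Y from H _ le_rfl
  intro Y
  induction Y using WellFoundedLT.induction with
  | ind Y ih =>
  intro hY
  by_cases h0 : ∀ L L', Kc A K φ a L → Kc A K φ b L' →
      Y ≤ finN A K φ a (L ⊓ 𝒞[φ]) ⊔ finN A K φ b (L' ⊓ 𝒞[φ])
  · have : Y ≤ ⊥ := h.fin_center hc ▸ le_inf hY fun x hx =>
      h.fin_central hc ha hn hb hbn' fun L L' hL hL' => h0 L L' hL hL' hx
    exact kg_of_solvable (solvable_of_le inferInstance this)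
  push Not at h0
  obtain ⟨L, L', hL, hL', h0⟩ := h0
  have nN := norm_sup (h.fin_norm_N hc ha hn (L ⊓ 𝒞[φ])) (h.fin_norm_N hc hb hbn' (L' ⊓ 𝒞[φ]))
  refine kg_ext (hY.trans nN) (ih _ (inf_lt_left.2 h0) (inf_le_left.trans hY)) (kg_of_le
    (kgroup_quo ((h.mat_loc ha hn).sub bot_le (h.mat_ac hL).le bot_le).kgrp ((fin_kc_le hL).trans nN))
    ((quo_le_quo_iff' (hY.trans nN) ((fin_kc_le hL).trans nN)).2
      (hY.trans (h.fin_sup hb hbn hL (mem_sup_left (mem_zpowers a)) _))))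

end Cfsg.Agent.NSV
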