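import Cfsg.Agent.NSV.Defs

set_option autoImplicit false
set_option linter.unusedSectionVars false

namespace Cfsg.Agent.NSV

open Subgroup Cfsg.Agent.H49 Cfsg.Agent.H44 Cfsg.Agent.H45 Cfsg.Agent.NSF
open scoped commutatorElement

universe u

variable {G : Type u} [Group G] [Finite G] {r p q : ℕ}
  {A B B' D H J J' L L' M N P R S U V X Y Z : Subgroup G} {θ K : G → Subgroup G} {a a' b c g k x y φ : G}

/-- the subgroup attached to a line -/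
def geoJ (K : G → Subgroup G) (B : Subgroup G) : Subgroup G :=
  ⨆ (b : G) (_ : b ∈ B ∧ b ≠ 1), res (K b ⊓ 𝒞(B))

theorem geoJ_le (K : G → Subgroup G) (B : Subgroup G) : geoJ K B ≤ 𝒞(B) :=
  iSup₂_le fun _ _ => (res_le _).trans inf_le_right

theorem End.geoJ_eq (h : End r A θ K) (hB : B ≤ A) (hb : b ∈ B) (h1 : b ≠ 1) :
    geoJ K B = res (K b ⊓ 𝒞(B)) :=
  le_antisymm (iSup₂_le fun c hc => le_res (le_inf ((res_mono (inf_le_inf_left _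
    (cent_le_cent1 hb))).trans (h.bal c (hB hc.1) hc.2 b (hB hb) h1))
    ((res_le _).trans inf_le_right)) (res_perf _)) (le_iSup₂_of_le b ⟨hb, h1⟩ le_rfl)

theorem End.geo_le (h : End r A θ K) (ha : a ∈ A) (h1 : a ≠ 1) : K a ≤ θ a := by
  rcases h.cases a ha h1 with e | e
  · exact e.le.trans bot_le
  · exact e.1.le

theorem End.geo_two (h : End r A θ K) (ha : a ∈ A) (h1 : a ≠ 1) (hK : K a ≠ ⊥) :
    ((∀ L, AC ⊥ (K a) L → A ⊓ 𝒩(L) = zpowers a) ∧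
      ∀ B, Line r A B → a ∈ B → geoJ K B ≠ ⊥ ∧ ¬ Sim (geoJ K B)) ∨
    ∃ D, Line r A D ∧ a ∈ D ∧ (∀ L, AC ⊥ (K a) L → A ⊓ 𝒩(L) = D) ∧ ¬ Sim (geoJ K D) ∧
      ∀ B, Line r A B → a ∈ B → B ≠ D → Sim (geoJ K B) := by
  obtain ⟨e1, e2, -⟩ := (h.cases a ha h1).resolve_left hK
  rcases (h.loc ha h1 hK).geo2 h.min.rk e1 e2 h1 (h.cent_eq ha h1 hK) with
    ⟨s, t⟩ | ⟨D, hD, haD, s, t, w⟩
  · exact Or.inl ⟨s, fun B hB haB => by rw [h.geoJ_eq hB.le haB h1]; exact t B hB haB⟩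
  · exact Or.inr ⟨D, hD, haD, s, by rwa [h.geoJ_eq hD.le haD h1], fun B hB haB hne => by
      rw [h.geoJ_eq hB.le haB h1]; exact w B hB haB hne⟩

theorem End.geo_vis (h : End r A θ K) (hB : Line r A B) (ha : a ∈ B) (h1 : a ≠ 1)
    (hn : geoJ K B ≠ ⊥) : K a ≠ ⊥ := fun e => hn (eq_bot_iff.2
  ((h.geoJ_eq hB.le ha h1).le.trans ((res_le _).trans (inf_le_left.trans e.le))))

theorem End.geo_F (h : End r A θ K) (hB : Line r A B) (ha : a ∈ B) (h1 : a ≠ 1)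
    (hs : Sim (geoJ K B)) : K a ≠ ⊥ ∧
    ∃ D, Line r A D ∧ a ∈ D ∧ (∀ L, AC ⊥ (K a) L → A ⊓ 𝒩(L) = D) ∧ ¬ Sim (geoJ K D) ∧
      ∀ B, Line r A B → a ∈ B → B ≠ D → Sim (geoJ K B) :=
  have hv := h.geo_vis hB ha h1 hs.glne
  ⟨hv, (h.geo_two (hB.le ha) h1 hv).resolve_left fun e => (e.2 B hB ha).2 hs⟩

theorem End.geo_end2 (h : End r A θ K) (hφ : φ ∈ A) (h1 : φ ≠ 1)
    (hv : ∀ a ∈ A, a ∉ zpowers φ → K a ≠ ⊥) (hs : ∀ a ∈ A, a ∉ zpowers φ → ∀ L, AC ⊥ (K a) L →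
      (A ⊓ 𝒩(L)) ⊔ zpowers φ = zpowers a ⊔ zpowers φ) : End2 r A θ K φ := by
  have n1 : ∀ a, a ∉ zpowers φ → a ≠ 1 := fun a hn e => hn (e ▸ one_mem _)
  refine ⟨h, hφ, h1, hv, fun a ha hn => h.cent_eq ha (n1 a hn) (hv a ha hn), fun a ha hn L hL => ?_⟩
  obtain ⟨e, -⟩ := (h.cases a ha (n1 a hn)).resolve_left (hv a ha hn)
  obtain ⟨L0, hL0⟩ := e.exists_le (B := ⊥) bot_le
  rw [e.stab_sup h.min.rk.comm (zpowers_le.2 hφ) hL0 hL, hs a ha hn L0 hL0]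

theorem End.exists_end2 (h : End r A θ K) : ∃ φ, End2 r A θ K φ ∧
    ((∀ a ∈ A, a ∉ zpowers φ → ∀ L, AC ⊥ (K a) L → φ ∉ 𝒩(L)) ∨
      ∀ a ∈ A, a ∉ zpowers φ → ∀ L, AC ⊥ (K a) L → φ ∈ 𝒩(L)) := by
  have h3 := h.min.rk
  by_cases hF : ∃ B, Line r A B ∧ Sim (geoJ K B)
  · obtain ⟨B0, l0, s0⟩ := hF
    obtain ⟨a0, m0, -, n0⟩ := h3.meet l0 l0
    obtain ⟨-, D0, d0, a0D, -, -, w0⟩ := h.geo_F l0 m0 n0 s0
    have out : ∀ c ∈ A, c ∉ D0 → ∃ D, Line r A D ∧ c ∈ D ∧ ¬ Sim (geoJ K D) ∧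
        ∀ B, Line r A B → c ∈ B → B ≠ D → Sim (geoJ K B) := fun c hc hn => by
      obtain ⟨B, hB, b1, b2⟩ := h3.exists_line (l0.le m0) hc
      obtain ⟨-, D, e1, e2, -, e3⟩ := h.geo_F hB b2 (fun e => hn (e ▸ one_mem _))
        (w0 B hB b1 fun e => hn (e ▸ b2))
      exact ⟨D, e1, e2, e3⟩
    obtain ⟨c, hc, hcn⟩ := h3.exists_not_mem d0
    obtain ⟨D1, d1, cD, s1, -⟩ := out c hc hcn
    obtain ⟨φ, φ0, φ1, φn⟩ := h3.meet d0 d1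
    have hφ := d0.le φ0
    have nF : ∀ B, Line r A B → ¬ Sim (geoJ K B) → φ ∈ B := fun B hB hn => by
      by_cases hne : B = D1
      · exact hne ▸ φ1
      obtain ⟨e, eB, eD, en⟩ := h3.meet hB d1
      by_cases he : e ∈ D0
      · exact zpowers_le.2 eB (h3.mem_zpowers_comm hφ ((h3.inf_eq d0 d1
          (fun e => hcn (e ▸ cD)) φ0 φ1 φn).le ⟨he, eD⟩) en)
      · obtain ⟨D, -, -, -, w⟩ := out e (hB.le eB) he
        exact absurd ((by_contra fun k => hn (w B hB eB k) : B = D).trans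
          (by_contra fun k => s1 (w D1 d1 eD k) : D1 = D).symm) hne
    have key : ∀ a ∈ A, a ∉ zpowers φ → K a ≠ ⊥ ∧
        ∀ L, AC ⊥ (K a) L → A ⊓ 𝒩(L) = zpowers a ⊔ zpowers φ := fun a ha hn => by
      have a1 : a ≠ 1 := fun e => hn (e ▸ one_mem _)
      have hφa : φ ∉ zpowers a := fun e => hn (h3.mem_zpowers_comm ha e φn)
      obtain ⟨b, hb, hbn⟩ := h3.exists_not_sup hφ ha
      have hB := h3.line_sup ha a1 hb fun e => hbn (mem_sup_right e)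
      obtain ⟨v, D, e1, e2, e3, e4, -⟩ := h.geo_F hB (mem_sup_left (mem_zpowers a)) a1
        (by_contra fun k => h3.not_mem_symm hb (zpowers_le.2 ha) hφa hbn (sup_comm (zpowers a) _ ▸
          nF _ hB k))
      exact ⟨v, fun L hL => (e3 L hL).trans (h3.line_eq e1 e2 a1 (nF D e1 e4) hφa)⟩
    refine ⟨φ, h.geo_end2 hφ φn (fun a ha hn => (key a ha hn).1) fun a ha hn L hL => ?_,
      Or.inr fun a ha hn L hL => (((key a ha hn).2 L hL).ge (mem_sup_right (mem_zpowers φ))).2⟩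
    rw [(key a ha hn).2 L hL, sup_assoc, sup_idem]
  · have one : ∀ a ∈ A, a ≠ 1 → K a ≠ ⊥ → (∀ L, AC ⊥ (K a) L → A ⊓ 𝒩(L) = zpowers a) ∧
        ∀ B, Line r A B → a ∈ B → geoJ K B ≠ ⊥ ∧ ¬ Sim (geoJ K B) := fun a ha a1 hv => by
      refine (h.geo_two ha a1 hv).resolve_right ?_
      rintro ⟨D, hD, haD, -, -, w⟩
      obtain ⟨c, hc, hcn⟩ := h3.exists_not_mem hD
      obtain ⟨B, hB, b1, b2⟩ := h3.exists_line ha hc
      exact hF ⟨B, hB, w B hB b1 fun e => hcn (e ▸ b2)⟩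
    obtain ⟨φ, hφ, n0, v0⟩ := h.ex
    have vis : ∀ a ∈ A, a ∉ zpowers φ → K a ≠ ⊥ := fun a ha hn => by
      obtain ⟨B, hB, b1, b2⟩ := h3.exists_line hφ ha
      exact h.geo_vis hB b2 (fun e => hn (e ▸ one_mem _)) ((one φ hφ n0 v0).2 B hB b1).1
    have key : ∀ a ∈ A, a ∉ zpowers φ → ∀ L, AC ⊥ (K a) L → A ⊓ 𝒩(L) = zpowers a :=
      fun a ha hn => (one a ha (fun e => hn (e ▸ one_mem _)) (vis a ha hn)).1
    exact ⟨φ, h.geo_end2 hφ n0 vis fun a ha hn L hL => by rw [key a ha hn L hL],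
      Or.inl fun a ha hn L hL e => hn (h3.mem_zpowers_comm ha ((key a ha hn L hL).le ⟨hφ, e⟩) n0)⟩

end Cfsg.Agent.NSV
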