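/-
The final configuration of the signalizer functor theorem without minimality assumptions.
-/
import Cfsg.Agent.NSF.Trans
import Cfsg.Agent.NSF.GeoL
import Cfsg.Agent.NSF.Pump

set_option autoImplicit false
set_option linter.unusedSectionVars false

namespace Cfsg.Agent.NSV

open Subgroup Cfsg.Agent.H49 Cfsg.Agent.H45 Cfsg.Agent.NSF

universe u

section
variable {G : Type u} [Group G]

/-- `θ` is an `A`-signalizer functor. -/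
structure SF' (r : ℕ) (A : Subgroup G) (θ : G → Subgroup G) : Prop where
  prime : r.Prime
  elem : Cfsg.IsElementaryAbelian r A
  le_cent : ∀ a ∈ A, a ≠ 1 → θ a ≤ 𝒞[a]
  pi : ∀ a ∈ A, a ≠ 1 → IsPi {r}ᶜ (θ a)
  norm : ∀ a ∈ A, a ≠ 1 → A ≤ 𝒩(θ a)
  bal : ∀ a ∈ A, a ≠ 1 → ∀ b ∈ A, b ≠ 1 → θ a ⊓ 𝒞[b] ≤ θ b

/-- A signalizer functor of rank three. -/
structure Min' (r : ℕ) (A : Subgroup G) (θ : G → Subgroup G) : Prop where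
  sf : SF' r A θ
  card : Nat.card A = r ^ 3

variable (r : ℕ) (A : Subgroup G) (θ K : G → Subgroup G)

/-- The layers `K a` are trivial or `A`-simple. -/
structure Lay : Prop where
  cases : ∀ a ∈ A, a ≠ 1 → K a = ⊥ ∨ AC A (θ a) (K a) ∧ sol (θ a) = ⊥ ∧ θ a ⊓ 𝒞(K a) = ⊥
  norm : ∀ a ∈ A, a ≠ 1 → θ a ≤ 𝒩(K a)
  bal : ∀ a ∈ A, a ≠ 1 → ∀ b ∈ A, b ≠ 1 → res (K a ⊓ 𝒞[b]) ≤ K b
  gen : ∀ a ∈ A, a ≠ 1 → θ a ≤ ⨆ (b : G) (_ : b ∈ A ∧ b ≠ 1), K b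
  kgrp : ∀ a ∈ A, a ≠ 1 → K a ≠ ⊥ → Cfsg.IsKGroup (θ a)
  cent0 : ∀ a ∈ A, a ≠ 1 → K a ≠ ⊥ → A ⊓ 𝒞(K a) = zpowers a
  ex : ∃ a ∈ A, a ≠ 1 ∧ K a ≠ ⊥

/-- The configuration in rank three. -/
structure End : Prop extends Lay A θ K where
  min : Min' r A θ

variable (φ : G)

/-- The final configuration. -/
structure End2 : Prop extends End r A θ K where
  mem : φ ∈ A
  ne : φ ≠ 1
  vis : ∀ a ∈ A, a ∉ zpowers φ → K a ≠ ⊥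
  cent : ∀ a ∈ A, a ∉ zpowers φ → A ⊓ 𝒞(K a) = zpowers a
  stab : ∀ a ∈ A, a ∉ zpowers φ → ∀ L, AC (zpowers φ) (K a) L →
    A ⊓ 𝒩(L) = zpowers a ⊔ zpowers φ

/-- `L` is a `φ`-component of `K a`. -/
structure Kc (a : G) (L : Subgroup G) : Prop where
  mem : a ∈ A
  nmem : a ∉ zpowers φ
  ac : AC (zpowers φ) (K a) L

end

variable {G : Type u} [Group G] [Finite G] {r p q : ℕ}
  {A B B' D H J J' L M N P R S U V X Y Z : Subgroup G} {θ K : G → Subgroup G} {a b c g k x y : G}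

theorem Min'.rk (h : Min' r A θ) : Rk3 r A := ⟨h.sf.prime, h.sf.elem, h.card⟩

theorem End.loc (h : End r A θ K) (ha : a ∈ A) (h1 : a ≠ 1) (hK : K a ≠ ⊥) : Loc r A (θ a) :=
  ⟨h.min.sf.prime, h.min.sf.elem, h.min.sf.norm a ha h1, h.min.sf.pi a ha h1, h.kgrp a ha h1 hK⟩

theorem End.cent_eq (h : End r A θ K) (ha : a ∈ A) (h1 : a ≠ 1) (hK : K a ≠ ⊥) :
    A ⊓ 𝒞(K a) = zpowers a := h.cent0 a ha h1 hK

theorem SF'.mem (h : SF' r A θ) (ha : a ∈ A) (h1 : a ≠ 1) : Mem' r A θ (θ a) :=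
  ⟨h.pi a ha h1, h.norm a ha h1, h.bal a ha h1⟩

theorem SF'.mem_sup (h : SF' r A θ) (hX : Mem' r A θ X) (hY : Mem' r A θ Y)
    (hn : X ≤ 𝒩(Y) ∨ Y ≤ 𝒩(X)) : Mem' r A θ (X ⊔ Y) := by
  have hpi : IsPi {r}ᶜ (X ⊔ Y) :=
    hX.pi.of_isProd hY.pi (hn.elim isProd_sup_of_norm_right isProd_sup_of_norm_left)
  refine ⟨hpi, norm_sup hX.norm hY.norm, fun a ha h1 => ?_⟩
  have hz := zpowers_le.2 ha
  rw [← cent_zpowers, coprime_sup_cent (elem_coprime h.prime h.elem hz hpi)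
    (.inl (solvable_of_le (elem_solvable h.elem) hz)) hn (hz.trans hX.norm) (hz.trans hY.norm),
    cent_zpowers]
  exact sup_le (hX.cent a ha h1) (hY.cent a ha h1)

theorem SF'.sInf_le_cent (h : SF' r A θ) (hB : B ≤ A) : signalizerInf B θ ≤ 𝒞(B) := by
  refine cent_symm fun b hb => ?_
  by_cases h1 : b = 1
  · rw [h1]; exact one_mem _
  · exact le_cent1_iff.1 ((H45.sInf_le hb h1).trans (h.le_cent b (hB hb) h1))

theorem SF'.sInf_eq (h : SF' r A θ) (hB : B ≤ A) (hb : b ∈ B) (h1 : b ≠ 1) :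
    signalizerInf B θ = θ b ⊓ 𝒞(B) :=
  le_antisymm (le_inf (H45.sInf_le hb h1) (h.sInf_le_cent hB)) ((h.mem (hB hb) h1).inf_cent_le hB)

theorem SF'.mem_sInf (h : SF' r A θ) (hB : B ≤ A) (h1 : B ≠ ⊥) : Mem' r A θ (signalizerInf B θ) := by
  obtain ⟨b, hb, hb1⟩ := ne_bot_iff_exists.1 h1
  rw [h.sInf_eq hB hb hb1]
  exact (h.mem (hB hb) hb1).inf (elem_norm_cent h.elem hB)

theorem SF'.restrict (h : SF' r A θ) (hB : B ≤ A) : SF' r B θ :=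
  ⟨h.prime, elem_of_le h.elem hB, fun a ha => h.le_cent a (hB ha), fun a ha => h.pi a (hB ha),
    fun a ha h1 => hB.trans (h.norm a (hB ha) h1),
    fun a ha h1 b hb => h.bal a (hB ha) h1 b (hB hb)⟩

theorem SF'.mem_cj (h : SF' r A θ) (hU : Mem' r A θ U) (hc : c ∈ signalizerInf A θ) :
    Mem' r A θ (cj c U) := by
  refine ⟨hU.pi.cj c, cj_of_cent (h.sInf_le_cent le_rfl hc) hU.norm, fun a ha h1 => ?_⟩
  have hca : c ∈ θ a := H45.sInf_le ha h1 hc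
  rw [← cj_eq_of_mem (h.le_cent a ha h1 hca), ← cj_inf]
  exact cj_le_of_mem (hU.cent a ha h1) hca

theorem SF'.maxQ_cj (h : SF' r A θ) (hS : MaxQ' r A θ q S) {c : G}
    (hc : c ∈ signalizerInf A θ) : MaxQ' r A θ q (cj c S) := by
  refine ⟨h.mem_cj hS.mem hc, hS.pi.cj c, fun R hR hq hle => ?_⟩
  have := hS.max (cj c⁻¹ R) (h.mem_cj hR (inv_mem hc)) (hq.cj _) (cj_le_iff.1 hle)
  rw [← this, cj_cj_inv]

theorem SF'.trans (h : SF' r A θ) (h3 : r ^ 3 ≤ Nat.card A) (hq : q.Prime) {P₁ P₂ : Subgroup G}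
    (h₁ : MaxQ' r A θ q P₁) (h₂ : MaxQ' r A θ q P₂) : ∃ c ∈ signalizerInf A θ, cj c P₁ = P₂ := by
  suffices H : ∀ n : ℕ, ∀ Q₁ Q₂ : Subgroup G, MaxQ' r A θ q Q₁ → MaxQ' r A θ q Q₂ →
      Nat.card G - Nat.card ↥(Q₁ ⊓ Q₂) < n → ∃ c ∈ signalizerInf A θ, cj c Q₁ = Q₂ from
    H _ P₁ P₂ h₁ h₂ (Nat.lt_succ_self _)
  intro n
  induction n with
  | zero => intro _ _ _ _ h; omega
  | succ n ih =>
    intro Q₁ Q₂ h₁ h₂ hn
    by_cases e : Q₁ = Q₂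
    · exact ⟨1, one_mem _, by rw [cj_one, e]⟩
    set D := Q₁ ⊓ Q₂ with hD
    have l₁ : D < Q₁ := lt_of_le_of_ne inf_le_left fun hc =>
      e (h₁.max Q₂ h₂.mem h₂.pi (hc ▸ inf_le_right)).symm
    have l₂ : D < Q₂ := lt_of_le_of_ne inf_le_right fun hc =>
      e (h₂.max Q₁ h₁.mem h₁.pi (hc ▸ inf_le_left))
    have hDn : A ≤ 𝒩(D) := norm_inf h₁.mem.norm h₂.mem.norm
    have hDm : Mem' r A θ D := h₁.mem.inf h₂.mem.norm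
    have m₁ : Mem' r A θ (Q₁ ⊓ 𝒩(D)) := h₁.mem.inf (norm_norm hDn)
    have m₂ : Mem' r A θ (Q₂ ⊓ 𝒩(D)) := h₂.mem.inf (norm_norm hDn)
    obtain ⟨a, ha, ha1, k₁, k₂⟩ := exists_elt_not_le h.prime h.elem h3 m₁.pi m₂.pi m₁.norm m₂.norm
      (lt_inf_norm_of_nilpotent h₁.pi.nilpotent l₁).not_ge
      (lt_inf_norm_of_nilpotent h₂.pi.nilpotent l₂).not_ge
    have hL : Mem' r A θ (θ a ⊓ 𝒩(D)) := (h.mem ha ha1).inf (norm_norm hDn)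
    have hH : Mem' r A θ ((θ a ⊓ 𝒩(D)) ⊔ D) := h.mem_sup hL hDm (Or.inl inf_le_right)
    have key : ∀ Q : Subgroup G, MaxQ' r A θ q Q → D ≤ Q → ¬ Q ⊓ 𝒩(D) ⊓ 𝒞[a] ≤ D →
        ∃ T, IsPiHallOf {q} T ((θ a ⊓ 𝒩(D)) ⊔ D) ∧ A ≤ 𝒩(T) ∧ D < T ⊓ Q := by
      intro Q hQ hDQ hk
      have hle : (Q ⊓ 𝒩(D) ⊓ 𝒞[a]) ⊔ D ≤ Q := sup_le (inf_le_left.trans inf_le_left) hDQ
      have hle' : (Q ⊓ 𝒩(D) ⊓ 𝒞[a]) ⊔ D ≤ (θ a ⊓ 𝒩(D)) ⊔ D := by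
        refine sup_le_sup_right (le_inf ?_ (inf_le_left.trans inf_le_right)) _
        exact (inf_le_inf_right _ inf_le_left).trans (hQ.mem.cent a ha ha1)
      obtain ⟨T, hT, hTn, hTl⟩ := inv_sylow_ge h.prime hq (elem_pi h.prime h.elem) hH.pi hH.norm
        (hQ.pi.of_le hle) hle'
        (norm_sup (norm_inf (norm_inf hQ.mem.norm (norm_norm hDn)) (elem_norm_cent1 h.elem ha)) hDn)
      refine ⟨T, hT, hTn, lt_of_lt_of_le ?_ (le_inf hTl hle)⟩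
      exact lt_of_le_of_ne le_sup_right fun hc => hk (le_sup_left.trans hc.ge)
    obtain ⟨T₁, hT₁, n₁, lt₁⟩ := key Q₁ h₁ inf_le_left k₁
    obtain ⟨T₂, hT₂, n₂, lt₂⟩ := key Q₂ h₂ inf_le_right k₂
    obtain ⟨c, hc, e⟩ := inv_sylow_conj (elem_pi h.prime h.elem) hH.pi hH.norm hT₁ hT₂ n₁ n₂
    replace hc := hH.inf_cent_le le_rfl hc
    obtain ⟨Q₃, h₃, hTQ⟩ := exists_maxQ_ge' (hH.sub hT₂.le n₂) hT₂.pi
    have c₁ : Nat.card D < Nat.card ↥(cj c Q₁ ⊓ Q₃) := by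
      refine lt_of_lt_of_le (card_lt_of_lt lt₁) ?_
      rw [← card_cj c (T₁ ⊓ Q₁)]
      refine Subgroup.card_le_of_le ?_
      rw [cj_inf, e]
      exact le_inf inf_le_right (inf_le_left.trans hTQ)
    have c₂ : Nat.card D < Nat.card ↥(Q₃ ⊓ Q₂) :=
      lt_of_lt_of_le (card_lt_of_lt lt₂) (Subgroup.card_le_of_le (inf_le_inf_right _ hTQ))
    have b₁ : Nat.card ↥(cj c Q₁ ⊓ Q₃) ≤ Nat.card G := Subgroup.card_le_card_group _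
    have b₂ : Nat.card ↥(Q₃ ⊓ Q₂) ≤ Nat.card G := Subgroup.card_le_card_group _
    obtain ⟨d, hd, e₁⟩ := ih _ _ (h.maxQ_cj h₁ hc) h₃ (by omega)
    obtain ⟨f, hf, e₂⟩ := ih _ _ h₃ h₂ (by omega)
    exact ⟨f * d * c, mul_mem (mul_mem hf hd) hc, by rw [cj_mul, cj_mul, e₁, e₂]⟩

theorem SF'.exists_le_cj (h : SF' r A θ) (h3 : r ^ 3 ≤ Nat.card A) (hq : q.Prime)
    (hS : MaxQ' r A θ q S)
    (hX : Mem' r A θ X) (hq' : IsPi {q} X) : ∃ c ∈ signalizerInf A θ, X ≤ cj c S := by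
  obtain ⟨Q, hQ, hle⟩ := exists_maxQ_ge' hX hq'
  obtain ⟨c, hc, e⟩ := h.trans h3 hq hS hQ
  exact ⟨c, hc, e ▸ hle⟩

theorem SF'.exists_sylow_cj (h : SF' r A θ) (h3 : r ^ 3 ≤ Nat.card A) (hq : q.Prime)
    (hS : MaxQ' r A θ q S)
    (hH : Mem' r A θ H) : ∃ c ∈ signalizerInf A θ, IsSylowOf q (cj c S ⊓ H) H := by
  obtain ⟨T, hT, hn, -⟩ := inv_sylow_ge h.prime hq (elem_pi h.prime h.elem) hH.pi hH.norm
    (isPi_bot _) bot_le (le_norm_bot _)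
  obtain ⟨c, hc, hle⟩ := h.exists_le_cj h3 hq hS (hH.sub hT.le hn) hT.pi
  refine ⟨c, hc, ?_⟩
  have := hT.eq_of_le (le_inf hle hT.le) inf_le_right ((hS.pi.cj c).inf_left _)
  exact this ▸ hT

theorem SF'.sylow_inf (h : SF' r A θ) (h3 : r ^ 3 ≤ Nat.card A) (hq : q.Prime)
    (hP : MaxQ' r A θ q P)
    (hH : Mem' r A θ H) (hC : signalizerInf A θ ≤ 𝒩(H)) : IsSylowOf q (P ⊓ H) H := by
  obtain ⟨c, hc, hs⟩ := h.exists_sylow_cj h3 hq hP hH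
  have := hs.cj_of_mem_norm (inv_mem (hC hc))
  rwa [cj_inf, cj_inv_cj, cj_eq_of_mem_norm (inv_mem (hC hc))] at this

end Cfsg.Agent.NSV
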